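import Groth.Prelude.Def_ModelsG
import Groth.Agent.H23.StalkPrimes
import Groth.Agent.RegLoc6.Basic
import Mathlib.RingTheory.Length

/-!
# Sections of arithmetic surfaces at the closed fibre
-/

noncomputable section

set_option autoImplicit false
set_option linter.style.haveILetI false
set_option linter.unusedSectionVars false
set_option backward.isDefEq.respectTransparency false
set_option backward.isDefEq.respectTransparency.types false
set_option maxHeartbeats 1000000

universe u

open CategoryTheory AlgebraicGeometry TopologicalSpace IsLocalRing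

namespace Groth.Agent.ArSurfSec

open Groth.Agent CDiv6 H23.StalkPrimes

variable {R : Type u} [CommRing R] [IsDomain R] [IsDiscreteValuationRing R]
  (X : Over (Spec (CommRingCat.of R))) {ϖ : R}

/-- A uniformizer is invertible exactly off the closed fibre. -/
theorem isUnit_stalkHom_iff (hϖ : maximalIdeal R = Ideal.span {ϖ}) (y : X.left) :
    IsUnit (Models.stalkHom R X y ϖ) ↔ y ∉ Models.specialFibreSet R X := by
  have hb : X.left.basicOpen (Coh.toGlobal X.hom ϖ) = X.hom ⁻¹ᵁ (PrimeSpectrum.basicOpen ϖ) := by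
    exact (Scheme.preimage_basicOpen X.hom ((Scheme.ΓSpecIso (CommRingCat.of R)).inv ϖ)).symm.trans
      (congrArg (fun U => X.hom ⁻¹ᵁ U) (basicOpen_eq_of_affine (R := CommRingCat.of R) ϖ))
  refine (X.left.mem_basicOpen (Coh.toGlobal X.hom ϖ) y trivial).symm.trans ?_
  rw [hb]
  show ϖ ∉ (X.hom y).asIdeal ↔ ¬ (X.hom y = closedPoint R)
  refine not_congr ⟨fun h => ?_, fun h => h ▸ (show ϖ ∈ maximalIdeal R from hϖ ▸ Ideal.mem_span_singleton_self ϖ)⟩
  exact PrimeSpectrum.ext ((IsLocalRing.le_maximalIdeal (X.hom y).isPrime.ne_top).antisymm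
    (hϖ.trans_le ((Ideal.span_singleton_le_iff_mem _).2 h)))

variable (σ : Spec (CommRingCat.of R) ⟶ X.left) (hσ : σ ≫ X.hom = 𝟙 _)

include hσ

/-- The stalk at the section retracts to the base ring. -/
theorem exists_retraction :
    ∃ s : X.left.presheaf.stalk (σ (closedPoint R)) →+* R, IsLocalHom s ∧
      ∀ r, s (Models.stalkHom R X (σ (closedPoint R)) r) = r := by
  let s : X.left.presheaf.stalk (σ (closedPoint R)) →+* R := (Scheme.stalkClosedPointTo σ).hom
  haveI : IsLocalHom s := Scheme.isLocalHom_stalkClosedPointTo' σ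
  refine ⟨s, inferInstance, fun r => ?_⟩
  have key : ∀ (g : Spec (CommRingCat.of R) ⟶ Spec (CommRingCat.of R)), g = Spec.map (𝟙 (CommRingCat.of R)) →
      (Spec (CommRingCat.of R)).presheaf.germ ⊤ (g (closedPoint R)) trivial ≫ Scheme.stalkClosedPointTo g =
        (Scheme.ΓSpecIso (CommRingCat.of R)).hom := by
    rintro g rfl
    rw [Scheme.germ_stalkClosedPointTo_Spec, Category.comp_id]
  have h2 := key (σ ≫ X.hom) (by rw [hσ, Spec.map_id])
  rw [Scheme.stalkClosedPointTo_comp] at h2
  have h3 : X.hom.appTop ≫ X.left.presheaf.germ ⊤ (σ (closedPoint R)) trivial ≫ Scheme.stalkClosedPointTo σ =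
      (Scheme.ΓSpecIso (CommRingCat.of R)).hom := by
    refine Eq.trans ?_ h2
    exact (Scheme.Hom.germ_stalkMap_assoc X.hom ⊤ (σ (closedPoint R)) trivial _).symm
  have hh : (Scheme.ΓSpecIso (CommRingCat.of R)).inv ≫ X.hom.appTop ≫
      X.left.presheaf.germ ⊤ (σ (closedPoint R)) trivial ≫ Scheme.stalkClosedPointTo σ = 𝟙 (CommRingCat.of R) := by
    rw [h3, Iso.inv_hom_id]
  simp only [s, Models.stalkHom, Coh.toGlobal, RingHom.comp_apply]
  have h4 := RingHom.congr_fun (congrArg CommRingCat.Hom.hom hh) r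
  simp only [CommRingCat.hom_comp, RingHom.comp_apply, CommRingCat.hom_id, RingHom.id_apply] at h4
  exact h4

/-- A section passes through exactly one component, of multiplicity one, and the fibre is regular there. -/
theorem main (hreg : IsRegularLocalRing (X.left.presheaf.stalk (σ (closedPoint R))))
    {n : ℕ} (Γ : Fin n → ArSurf.VertComp R X) (hΓ : Models.IsComponentList R X Γ) :
    Function.Surjective ((X.left.residue (σ (closedPoint R))).hom.comp (Models.stalkHom R X (σ (closedPoint R)))) ∧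
      IsRegularLocalRing (X.left.presheaf.stalk (σ (closedPoint R)) ⧸
        Ideal.map (Models.stalkHom R X (σ (closedPoint R))) (maximalIdeal R)) ∧
      (∃! i : Fin n, σ (closedPoint R) ∈ Set.range ((Γ i).ι.base : (Γ i).curve.left → X.left)) ∧
      ∀ i : Fin n, σ (closedPoint R) ∈ Set.range ((Γ i).ι.base : (Γ i).curve.left → X.left) →
        Models.mult R X (Γ i) = 1 := by
  haveI := hreg
  obtain ⟨s, hs, hret⟩ := exists_retraction X σ hσ
  let p := σ (closedPoint R)
  let A := X.left.presheaf.stalk p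
  let φ : R →+* A := Models.stalkHom R X p
  haveI : IsLocalHom s := hs
  replace hret : ∀ r, s (φ r) = r := hret
  refine ⟨fun y => ?_, ?_⟩
  · obtain ⟨a, rfl⟩ := X.left.residue_surjective p y
    refine ⟨s a, (sub_eq_zero.1 ?_).symm⟩
    show X.left.residue p a - X.left.residue p (φ (s a)) = 0
    rw [← map_sub]
    refine (residue_eq_zero_iff _).2 ((mem_maximalIdeal _).2 fun hu => ?_)
    have h := hu.map s
    rw [map_sub, hret, sub_self] at h
    exact not_isUnit_zero h
  obtain ⟨ϖ, hirr⟩ := IsDiscreteValuationRing.exists_irreducible R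
  have hϖ := hirr.maximalIdeal_eq
  have hmap : Ideal.map φ (maximalIdeal R) = Ideal.span {φ ϖ} := by
    rw [hϖ, Ideal.map_span, Set.image_singleton]
  have hle : maximalIdeal A ≤ (maximalIdeal R).comap s := fun a ha hu =>
    ha (IsLocalHom.map_nonunit a hu)
  have hx : φ ϖ ∈ maximalIdeal A := (mem_maximalIdeal _).2 fun hu => by
    have h := hu.map s
    rw [hret] at h
    exact hirr.not_isUnit h
  have hx2 : φ ϖ ∉ maximalIdeal A ^ 2 := fun h => by
    have h2 : s (φ ϖ) ∈ maximalIdeal R ^ 2 := by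
      have h3 := Ideal.mem_map_of_mem s h
      rw [Ideal.map_pow] at h3
      exact Ideal.pow_right_mono (Ideal.map_le_iff_le_comap.2 hle) 2 h3
    rw [hret, hϖ, Ideal.span_singleton_pow, Ideal.mem_span_singleton] at h2
    exact hirr.not_isUnit (isUnit_of_dvd_one (by
      obtain ⟨c, hc⟩ := h2
      exact ⟨c, mul_left_cancel₀ hirr.ne_zero (by rw [mul_one, ← mul_assoc, ← pow_two]; exact hc)⟩))
  haveI hq : IsRegularLocalRing (A ⧸ Ideal.span {φ ϖ}) := (RegLoc6.isRegularLocalRing_quot_and hx hx2).1
  refine ⟨by rw [hmap]; exact hq, ?_⟩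
  haveI := RegLoc6.isDomain_of_isRegularLocalRing (A ⧸ Ideal.span {φ ϖ})
  haveI hP : (Ideal.span {φ ϖ}).IsPrime := (Ideal.Quotient.isDomain_iff_prime _).1 inferInstance
  obtain ⟨ξ, hξ, hPξ⟩ := exists_point (x := p) (Ideal.span {φ ϖ})
  have hspec : ∀ (y : X.left) (h : y ⤳ p) (r : R),
      X.left.presheaf.stalkSpecializes h (φ r) = Models.stalkHom R X y r := fun y h r => by
    show (X.left.presheaf.germ ⊤ p trivial ≫ X.left.presheaf.stalkSpecializes h) _ = _
    rw [X.left.presheaf.germ_stalkSpecializes]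
    rfl
  have hfib : ∀ (y : X.left) (h : y ⤳ p), y ∈ Models.specialFibreSet R X ↔ ξ ⤳ y := fun y h => by
    rw [← primeOf_le_iff h hξ, hPξ, Ideal.span_singleton_le_iff_mem, mem_primeOf, hspec,
      isUnit_stalkHom_iff X hϖ, not_not]
  have hξs : ξ ∈ Models.specialFibreSet R X := (hfib ξ hξ).2 (specializes_refl _)
  let S : Set X.left := closure {ξ}
  have hSmax : S ∈ Models.fibreComponents R X := by
    refine ⟨⟨isIrreducible_singleton.closure,
      (Models.isClosed_specialFibreSet R X).closure_subset_iff.2 (Set.singleton_subset_iff.2 hξs)⟩, fun T hT hST => ?_⟩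
    obtain ⟨η, hη⟩ := QuasiSober.sober hT.1.closure isClosed_closure
    have hηξ : η ⤳ ξ := hη.specializes (subset_closure (hST (subset_closure rfl)))
    have hηs : η ∈ Models.specialFibreSet R X :=
      (Models.isClosed_specialFibreSet R X).closure_subset_iff.2 hT.2 hη.mem
    intro t ht
    have h1 : η ⤳ t := hη.specializes (subset_closure ht)
    exact specializes_iff_mem_closure.1 (((hfib η (hηξ.trans hξ)).1 hηs).trans h1)
  have hiff : ∀ i, p ∈ Set.range ((Γ i).ι.base : (Γ i).curve.left → X.left) ↔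
      Set.range ((Γ i).ι.base : (Γ i).curve.left → X.left) = S := fun i => by
    refine ⟨fun hp => ?_, fun h => h ▸ specializes_iff_mem_closure.1 hξ⟩
    have hmem : Set.range ((Γ i).ι.base : (Γ i).curve.left → X.left) ∈ Models.fibreComponents R X :=
      hΓ.2 ▸ ⟨i, rfl⟩
    refine le_antisymm ?_ (hmem.2 hSmax.1 ?_)
    all_goals
      rintro t ⟨w, rfl⟩
      have hg : ∀ w', Models.genPtOf R X (Γ i) ⤳ (Γ i).ι w' := fun w' =>
        ((genericPoint_spec (Γ i).curve.left).specializes (Set.mem_univ w')).map (Γ i).ι.continuous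
      obtain ⟨w₀, hw₀⟩ := hp
      exact specializes_iff_mem_closure.1
        (((hfib _ ((hg w₀).trans (by rw [show (Γ i).ι w₀ = p from hw₀]))).1 (hmem.1.2 ⟨_, rfl⟩)).trans (hg w))
  obtain ⟨i₀, hi₀⟩ : ∃ i, Set.range ((Γ i).ι.base : (Γ i).curve.left → X.left) = S := by
    rw [← hΓ.2] at hSmax
    exact hSmax
  refine ⟨⟨i₀, (hiff i₀).2 hi₀, fun i hi => hΓ.1 (((hiff i).1 hi).trans hi₀.symm)⟩, fun i hi => ?_⟩
  have hgen : Models.genPtOf R X (Γ i) = ξ := by
    have h1 : IsGenericPoint (Models.genPtOf R X (Γ i)) (Set.range ((Γ i).ι.base : (Γ i).curve.left → X.left)) := by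
      have h := (genericPoint_spec (Γ i).curve.left).image (Γ i).ι.continuous
      rwa [Set.image_univ, (Γ i).ι.isClosedEmbedding.isClosed_range.closure_eq] at h
    rw [(hiff i).1 hi] at h1
    exact h1.eq isGenericPoint_closure
  unfold Models.mult
  rw [hgen]
  letI := (X.left.presheaf.stalkSpecializes hξ).hom.toAlgebra
  haveI := isLocalization_primeOf hξ
  have h : Ideal.map (Models.stalkHom R X ξ) (maximalIdeal R) = maximalIdeal (X.left.presheaf.stalk ξ) := by
    rw [← IsLocalization.AtPrime.map_eq_maximalIdeal (primeOf hξ).asIdeal (X.left.presheaf.stalk ξ), hPξ,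
      Ideal.map_span, Set.image_singleton, hϖ, Ideal.map_span, Set.image_singleton,
      RingHom.algebraMap_toAlgebra, hspec ξ hξ ϖ]
  rw [h]
  haveI : IsSimpleModule (X.left.presheaf.stalk ξ)
      (X.left.presheaf.stalk ξ ⧸ maximalIdeal (X.left.presheaf.stalk ξ)) :=
    isSimpleModule_iff_isCoatom.2 (Ideal.IsMaximal.out)
  rw [Module.length_eq_one]
  rfl

end Groth.Agent.ArSurfSec
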